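import Groth.Agent.Lib.LocFreeDual20.ExtGlobal
import Groth.Agent.Lib.CurveMult.SlopeSplit
import Groth.Agent.Lib.ASBun21.Dual
import Groth.Agent.Lib.ModSupp25.Derived

/-!
# Twisting relative Ext sheaves by finite locally free modules
-/

set_option autoImplicit false
set_option maxHeartbeats 1000000
set_option linter.style.haveILetI false
set_option backward.isDefEq.respectTransparency false

universe u

open CategoryTheory CategoryTheory.Limits AlgebraicGeometry

noncomputable section

namespace GrothLib.RelExtTwist20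

attribute [local instance] LocFreeHom.hasSheafHom

open LocFreeHom OX LocFreeDual20

variable {X Y : Scheme.{u}}

/-- The pullback of `- ⊗ E` is the tensor product with the pullback of `E`. -/
def pullTensorNatIso (f : X ⟶ Y) (E : Y.Modules) :
    (DCoh.tensorBi (X := Y)).flip.obj E ⋙ Scheme.Modules.pullback f ≅
      Scheme.Modules.pullback f ⋙ (DCoh.tensorBi (X := X)).flip.obj ((Scheme.Modules.pullback f).obj E) :=
  NatIso.ofComponents (fun M => pullTensorIso f M E) (fun {M M'} a => pullTensorIso_natural₁ f a E)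

/-- `f_* Hom(f^*E, -) = Hom(E, f_* -)`. -/
def pushHomIso (f : X ⟶ Y) (E : Y.Modules) [ModSite.HasSheafHom (O := Y.sheaf) E]
    [ModSite.HasSheafHom (O := X.sheaf) ((Scheme.Modules.pullback f).obj E)] :
    Scheme.Modules.pushforward f ⋙ ModSite.sheafHom (O := Y.sheaf) E ≅
      ModSite.sheafHom (O := X.sheaf) ((Scheme.Modules.pullback f).obj E) ⋙ Scheme.Modules.pushforward f :=
  (((ModSite.sheafHomAdj (O := Y.sheaf) E).comp
    (Scheme.Modules.pullbackPushforwardAdjunction f)).ofNatIsoLeft (pullTensorNatIso f E)).rightAdjointUniq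
    ((Scheme.Modules.pullbackPushforwardAdjunction f).comp
      (ModSite.sheafHomAdj (O := X.sheaf) ((Scheme.Modules.pullback f).obj E)))

theorem injective_sheafHom {E : X.Modules} (hE : FlatMod.IsFinLocFree E) [ModSite.HasSheafHom (O := X.sheaf) E]
    (J : X.Modules) (hJ : Injective J) : Injective ((ModSite.sheafHom (O := X.sheaf) E).obj J) := by
  let L := (DCoh.tensorBi (X := X)).flip.obj E
  have : L.Additive := Functor.additive_of_iso ((tensorBraiding (X := X)).app E).symm
  obtain ⟨_, _⟩ : PreservesFiniteLimits L ∧ PreservesFiniteColimits L :=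
    (L.exact_tfae.out 0 3).1 fun S hS => tensor_map_shortExact (flat_of_isFinLocFree hE) hS
  let adj : L ⊣ (ModSite.sheafHom (O := X.sheaf) E : X.Modules ⥤ X.Modules) :=
    ModSite.sheafHomAdj (O := X.sheaf) E
  exact adj.map_injective J hJ

theorem additive_sheafHom (E : X.Modules) [ModSite.HasSheafHom (O := X.sheaf) E] :
    (ModSite.sheafHom (O := X.sheaf) E).Additive := by
  have : PreservesLimitsOfSize.{0, 0} (ModSite.sheafHom (O := X.sheaf) E) :=
    (ModSite.sheafHomAdj (O := X.sheaf) E).rightAdjoint_preservesLimits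
  exact Functor.additive_of_preserves_binary_products _

theorem hasSheafHom (E : X.Modules) : ModSite.HasSheafHom (O := X.sheaf) E :=
  (((DCoh.sheafHomAdj E).ofNatIsoLeft ((tensorBraiding (X := X)).app E).symm).isLeftAdjoint :)

/-- A finite locally free module pulled back is the dual of the pullback of its dual. -/
theorem nonempty_pullback_dual_dual (f : X ⟶ Y) {N : Y.Modules} (hN : FlatMod.IsFinLocFree N) :
    Nonempty (LocFreeDual20.dual ((Scheme.Modules.pullback f).obj (LocFreeDual20.dual N)) ≅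
      (Scheme.Modules.pullback f).obj N) := by
  have hD := isFinLocFree_iHom hN (OX.isFinLocFree_structureModule Y)
  haveI := isIso_cmp f hD (Coh.structureModule Y)
  haveI := CurveMult.isIso_bidualMap hN
  exact ⟨iHomCongr (Iso.refl _) (OX.pullUnitIso f).symm ≪≫
    (asIso (cmp f (LocFreeDual20.dual N) (Coh.structureModule Y))).symm ≪≫
    (Scheme.Modules.pullback f).mapIso (asIso (CurveMult.bidualMap N)).symm⟩

theorem nonempty_dual_dual {N : Y.Modules} (hN : FlatMod.IsFinLocFree N) :
    Nonempty (LocFreeDual20.dual (LocFreeDual20.dual N) ≅ N) := by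
  haveI := CurveMult.isIso_bidualMap hN
  exact ⟨(asIso (CurveMult.bidualMap N)).symm⟩

/-- `Hom(E, M) ≅ M ⊗ N` when `N` is the dual of `E`. -/
theorem nonempty_homObj_iso {E N : X.Modules} (hE : FlatMod.IsFinLocFree E) [ModSite.HasSheafHom (O := X.sheaf) E]
    (d : LocFreeDual20.dual E ≅ N) (M : X.Modules) :
    Nonempty ((ModSite.sheafHom (O := X.sheaf) E).obj M ≅ CohB1.tensorMod M N) :=
  ⟨homObjIso hE M ≪≫ ((DCoh.tensorBi (X := X)).obj M).mapIso
    ((siteHomIso E).app (Coh.structureModule X) ≪≫ d)⟩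

/-- `Ext^p_f(F ⊗ L, G ⊗ f^*N) ≅ Ext^p_f(F, G ⊗ L^∨) ⊗ N`. -/
theorem nonempty_relExt_twist (f : X ⟶ Y) (F G L : X.Modules) (N : Y.Modules)
    (hL : FlatMod.IsFinLocFree L) (hN : FlatMod.IsFinLocFree N) (p : ℕ)
    [ModSite.HasSheafHom (O := X.sheaf) F] [ModSite.HasSheafHom (O := X.sheaf) L]
    [ModSite.HasSheafHom (O := X.sheaf) (CohB1.tensorMod F L)] [HasInjectiveResolutions (ModSite.Mod X.sheaf)]
    [(ModSite.sheafHom (O := X.sheaf) F ⋙ Scheme.Modules.pushforward f).Additive]
    [(ModSite.sheafHom (O := X.sheaf) (CohB1.tensorMod F L) ⋙ Scheme.Modules.pushforward f).Additive] :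
    Nonempty (((ModSite.sheafHom (O := X.sheaf) (CohB1.tensorMod F L) ⋙ Scheme.Modules.pushforward f).rightDerived p).obj
        (CohB1.tensorMod G ((Scheme.Modules.pullback f).obj N)) ≅
      CohB1.tensorMod (((ModSite.sheafHom (O := X.sheaf) F ⋙ Scheme.Modules.pushforward f).rightDerived p).obj
        (CohB1.tensorMod G ((ModSite.sheafHom (O := X.sheaf) L).obj (Coh.structureModule X)))) N) := by
  let E : Y.Modules := LocFreeDual20.dual N
  let D : X.Modules := (Scheme.Modules.pullback f).obj E
  have hE : FlatMod.IsFinLocFree E := isFinLocFree_iHom hN (OX.isFinLocFree_structureModule Y)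
  have hD : FlatMod.IsFinLocFree D := OX.isFinLocFree_pullback f hE
  haveI := hasSheafHom (X := Y) E
  haveI := hasSheafHom (X := X) D
  haveI := hasSheafHom (X := X) (CohB1.tensorMod D F)
  haveI := hasSheafHom (X := X) (CohB1.tensorMod (CohB1.tensorMod F L) D)
  haveI := hasSheafHom (X := X) (CohB1.tensorMod (CohB1.tensorMod D F) L)
  haveI := hasSheafHom (X := X) (CohB1.tensorMod L (CohB1.tensorMod D F))
  obtain ⟨d⟩ := nonempty_pullback_dual_dual f hN
  obtain ⟨d'⟩ := nonempty_dual_dual hN
  let HD : X.Modules ⥤ X.Modules := ModSite.sheafHom (O := X.sheaf) D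
  let HL : X.Modules ⥤ X.Modules := ModSite.sheafHom (O := X.sheaf) L
  let HE : Y.Modules ⥤ Y.Modules := ModSite.sheafHom (O := Y.sheaf) E
  let A : X.Modules ⥤ Y.Modules :=
    ModSite.sheafHom (O := X.sheaf) (CohB1.tensorMod F L) ⋙ Scheme.Modules.pushforward f
  let B : X.Modules ⥤ Y.Modules := ModSite.sheafHom (O := X.sheaf) F ⋙ Scheme.Modules.pushforward f
  haveI : A.Additive := ‹_›
  haveI : B.Additive := ‹_›
  haveI : HD.Additive := additive_sheafHom D
  haveI : HL.Additive := additive_sheafHom L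
  haveI : HE.Additive := additive_sheafHom E
  haveI : HD.PreservesHomology := preservesHomology_sheafHom hD
  haveI : HL.PreservesHomology := preservesHomology_sheafHom hL
  haveI : HE.PreservesHomology := preservesHomology_sheafHom hE
  haveI : PreservesLimitsOfSize.{0, 0} HD :=
    (ModSite.sheafHomAdj (O := X.sheaf) D).rightAdjoint_preservesLimits
  haveI : PreservesFiniteLimits HD := PreservesLimitsOfSize.preservesFiniteLimits.{0, 0} HD
  haveI : PreservesLimitsOfSize.{0, 0} HL :=
    (ModSite.sheafHomAdj (O := X.sheaf) L).rightAdjoint_preservesLimits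
  haveI : PreservesFiniteLimits HL := PreservesLimitsOfSize.preservesFiniteLimits.{0, 0} HL
  haveI : PreservesFiniteColimits HD :=
    @preservesFiniteColimits_of_natIso _ _ _ _ _ _ (siteHomIso D).symm (preservesFiniteColimits_sheafHom hD)
  haveI : PreservesFiniteColimits HL :=
    @preservesFiniteColimits_of_natIso _ _ _ _ _ _ (siteHomIso L).symm (preservesFiniteColimits_sheafHom hL)
  obtain ⟨e₁⟩ := nonempty_homObj_iso hD d G
  obtain ⟨e₂⟩ := nonempty_homObj_iso hE d' ((B.rightDerived p).obj (HL.obj G))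
  let c : CohB1.tensorMod (CohB1.tensorMod F L) D ≅ CohB1.tensorMod (CohB1.tensorMod D F) L :=
    (((tensorBraiding (X := X)).app (CohB1.tensorMod F L)).app D).symm ≪≫ (tensorAssoc D F L).symm
  let key : HD ⋙ A ≅ HL ⋙ (B ⋙ HE) :=
    (Functor.associator _ _ _).symm ≪≫ Functor.isoWhiskerRight
      (homTensorIso (CohB1.tensorMod F L) D ≪≫ homCongrIso c ≪≫
        (homTensorIso (CohB1.tensorMod D F) L).symm ≪≫
        Functor.isoWhiskerLeft HL (homTensorIso D F).symm) (Scheme.Modules.pushforward f) ≪≫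
      Functor.associator _ _ _ ≪≫
      Functor.isoWhiskerLeft HL (Functor.associator _ _ _ ≪≫
        Functor.isoWhiskerLeft _ (pushHomIso f E).symm ≪≫ (Functor.associator _ _ _).symm)
  exact ⟨(A.rightDerived p).mapIso e₁.symm ≪≫
    (GrothLib.LocZ.rightDerivedPreExactIso HD (fun J hJ => injective_sheafHom hD J hJ) A p).app G ≪≫
    (GrothLib.SheafCoh.rightDerivedCongr key p).app G ≪≫
    (GrothLib.LocZ.rightDerivedPreExactIso HL (fun J hJ => injective_sheafHom hL J hJ) (B ⋙ HE) p).symm.app G ≪≫
    (GrothLib.ModSupp25.rightDerivedPostIso B HE p).symm.app _ ≪≫ e₂ ≪≫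
    ((DCoh.tensorBi (X := Y)).flip.obj N).mapIso ((B.rightDerived p).mapIso (homObjIso hL G))⟩

end GrothLib.RelExtTwist20

end
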